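import Groth.Agent.RedPts.Basic
import Groth.Prelude.Def_AlgGrp
import Mathlib.AlgebraicGeometry.ZariskisMainTheorem
import Mathlib.Algebra.Polynomial.Taylor
import Mathlib.Algebra.Polynomial.Laurent
import Mathlib.RingTheory.AdjoinRoot
import Mathlib.RingTheory.PrincipalIdealDomain
import Mathlib.RingTheory.DedekindDomain.Dvr
import Mathlib.RingTheory.Flat.Basic
import Mathlib.AlgebraicGeometry.Morphisms.Flat
import Mathlib.AlgebraicGeometry.Morphisms.UnderlyingMap

/-! Finite subgroup schemes of the additive and the multiplicative group over a field are kernels. -/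

set_option autoImplicit false

universe u

open CategoryTheory MonoidalCategory CartesianMonoidalCategory MonObj GrpObj AlgebraicGeometry Limits Polynomial
open scoped TensorProduct

noncomputable section

namespace Groth.Agent.GaGm

open RedPts

variable {K : Type u} [Field K]

local notation "SK" => Spec (CommRingCat.of K)

/-- The scalars of a scheme over a field. -/
def sc (T : Over SK) : K →+* Γ(T.left, ⊤) := ((Scheme.ΓSpecIso (CommRingCat.of K)).inv ≫ T.hom.appTop).hom

theorem appTop_sc {T T' : Over SK} (h : T' ⟶ T) (c : K) : h.left.appTop (sc T c) = sc T' c := by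
  simp only [sc, ← Over.w h, Scheme.Hom.comp_appTop]
  rfl

theorem appTop_eval₂ {T T' : Over SK} (h : T' ⟶ T) (f : K[X]) (a : Γ(T.left, ⊤)) :
    h.left.appTop (f.eval₂ (sc T) a) = f.eval₂ (sc T') (h.left.appTop a) := by
  rw [Polynomial.hom_eval₂]
  congr 1
  exact RingHom.ext (appTop_sc h)

section Affine

variable (B : Type u) [CommRing B] [Algebra K B]

/-- `Spec B` over `Spec K`. -/
abbrev specK : Over SK := Over.mk (Spec.map (CommRingCat.ofHom (algebraMap K B)))

/-- Functions on `Spec B`. -/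
abbrev fnB : B →+* Γ((specK (K := K) B).left, ⊤) := (Scheme.ΓSpecIso (CommRingCat.of B)).inv.hom

theorem fnB_algebraMap (c : K) : fnB B (algebraMap K B c) = sc (specK B) c :=
  congr($(Scheme.ΓSpecIso_inv_naturality (CommRingCat.ofHom (algebraMap K B))) c)

theorem fnB_eval₂ (f : K[X]) (b : B) : fnB B (aeval b f) = f.eval₂ (sc (specK B)) (fnB B b) := by
  rw [Polynomial.aeval_def, Polynomial.hom_eval₂]
  congr 1
  exact RingHom.ext (fnB_algebraMap B)

theorem fnB_bijective : Function.Bijective (fnB (K := K) B) :=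
  (Scheme.ΓSpecIso (CommRingCat.of B)).symm.commRingCatIsoToRingEquiv.bijective

variable {B}

/-- The morphism to `Spec B` of a ring map to functions. -/
def toP {T : Over SK} (ψ : B →+* Γ(T.left, ⊤)) (hψ : ψ.comp (algebraMap K B) = sc T) : T ⟶ specK B :=
  Over.homMk (T.left.toSpecΓ ≫ Spec.map (CommRingCat.ofHom ψ)) (by
    show (T.left.toSpecΓ ≫ Spec.map (CommRingCat.ofHom ψ)) ≫ Spec.map _ = _
    rw [Category.assoc, ← Spec.map_comp, ← CommRingCat.ofHom_comp, hψ]
    simp [sc, ← Scheme.toSpecΓ_naturality_assoc])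

theorem toP_appTop {T : Over SK} (ψ : B →+* Γ(T.left, ⊤)) (hψ : ψ.comp (algebraMap K B) = sc T) (b : B) :
    (toP ψ hψ).left.appTop (fnB B b) = ψ b := by
  have : (Scheme.ΓSpecIso (CommRingCat.of B)).inv ≫ (T.left.toSpecΓ ≫ Spec.map (CommRingCat.ofHom ψ)).appTop =
      CommRingCat.ofHom ψ := by
    simp [← Scheme.ΓSpecIso_inv_naturality_assoc, Scheme.toSpecΓ_appTop]
  exact congr($this b)

theorem hom_ext_specK {T : Over SK} {g g' : T ⟶ specK B}
    (h : ∀ b, g.left.appTop (fnB B b) = g'.left.appTop (fnB B b)) : g = g' := by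
  haveI : IsAffine (specK (K := K) B).left := inferInstanceAs (IsAffine (Spec (CommRingCat.of B)))
  refine Over.OverMorphism.ext (ext_of_isAffine ?_)
  ext a
  obtain ⟨b, rfl⟩ := (fnB_bijective B).2 a
  exact h b

end Affine

/-! ### Polynomials -/

theorem taylor_additive (f : K[X]) (hf : f.Monic) (h0 : f.eval 0 = 0) {C : Type u} [CommRing C] [Algebra K C]
    (b : Module.Basis (Fin f.natDegree) K C) (α : C) (hb : ∀ i, b i = α ^ (i : ℕ))
    (hα : aeval α f = 0) (h : aeval (α ⊗ₜ[K] (1 : C) + (1 : C) ⊗ₜ[K] α) f = 0)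
    {R : Type u} [CommRing R] (σ : K →+* R) (x y : R) : f.eval₂ σ (x + y) = f.eval₂ σ x + f.eval₂ σ y := by
  classical
  generalize hd : f.natDegree = d at b hb
  let g : ℕ → K[X] := fun j => hasseDeriv j f
  let q : ℕ → K[X] := fun j => if j = 0 then (0 : K[X]) else g j - Polynomial.C (f.coeff j)
  have key : ∀ {R : Type u} [CommRing R] (σ : K →+* R) (x y : R),
      f.eval₂ σ (x + y) - f.eval₂ σ x - f.eval₂ σ y = ∑ j ∈ Finset.range (d + 1), x ^ j * (q j).eval₂ σ y := by
    intro R _ σ x y
    have e1 : f.eval₂ σ (x + y) = ∑ j ∈ Finset.range (d + 1), (g j).eval₂ σ y * x ^ j := by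
      rw [eval₂_eq_eval_map, ← taylor_eval, eval_eq_sum_range'
        (n := d + 1) (by rw [natDegree_taylor]; exact Nat.lt_succ_of_le (natDegree_map_le.trans hd.le))]
      refine Finset.sum_congr rfl fun j _ => ?_
      rw [taylor_coeff, eval₂_eq_eval_map]
      congr 2
      ext i
      simp [g, hasseDeriv_coeff, coeff_map]
    have e2 : f.eval₂ σ x = ∑ j ∈ Finset.range (d + 1), σ (f.coeff j) * x ^ j :=
      (eval₂_eq_sum_range σ x).trans (by rw [hd])
    rw [Finset.sum_range_succ'] at e1 e2
    rw [e1, e2, Finset.sum_range_succ']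
    have hc0 : f.coeff 0 = 0 := by rwa [coeff_zero_eq_eval_zero]
    simp only [q, g, hasseDeriv_zero, hc0, map_zero, LinearMap.id_coe, id_eq, if_true, eval₂_zero, mul_zero, zero_mul,
      add_zero, pow_zero, mul_one, _root_.mul_one, Nat.succ_ne_zero, if_false, eval₂_sub, eval₂_C]
    rw [add_sub_right_comm, add_sub_assoc, sub_self, add_zero, ← Finset.sum_sub_distrib]
    exact Finset.sum_congr rfl fun j _ => by ring
  have hqd : q d = 0 := by
    rcases Nat.eq_zero_or_pos d with h' | h'
    · simp [q, h']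
    · rw [show q d = g d - Polynomial.C (f.coeff d) from if_neg h'.ne', sub_eq_zero]
      subst hd; simp only [g, hasseDeriv_natDegree_eq_C, leadingCoeff]
  have hq : ∀ j, q j = 0 ∨ (q j).natDegree < d := fun j => by
    by_cases hj : j = 0
    · simp [q, hj]
    by_cases hd0 : d = 0
    · refine Or.inl ?_
      have h1 : f = 1 := by rw [← hf.natDegree_eq_zero]; omega
      simp [q, g, hj, h1, coeff_one, hasseDeriv_apply_one _ (Nat.pos_of_ne_zero hj)]
    · refine Or.inr ?_
      simp only [q, hj, if_false, natDegree_sub_C]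
      exact lt_of_le_of_lt (natDegree_hasseDeriv_le f j) (by omega)
  have hz : ∀ j, j ≤ d → q j = 0 := by
    intro j hj
    rcases eq_or_lt_of_le hj with rfl | hj
    · exact hqd
    have h1 := key (algebraMap K (C ⊗[K] C)) (α ⊗ₜ[K] (1 : C)) ((1 : C) ⊗ₜ[K] α)
    have hl : f.eval₂ (algebraMap K (C ⊗[K] C)) (α ⊗ₜ[K] (1 : C)) = 0 := by
      have := aeval_algHom_apply (Algebra.TensorProduct.includeLeft : C →ₐ[K] C ⊗[K] C) α f
      rw [hα, map_zero] at this
      exact this
    have hr : f.eval₂ (algebraMap K (C ⊗[K] C)) ((1 : C) ⊗ₜ[K] α) = 0 := by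
      have := aeval_algHom_apply (Algebra.TensorProduct.includeRight : C →ₐ[K] C ⊗[K] C) α f
      rw [hα, map_zero] at this
      exact this
    rw [← aeval_def, h, hl, hr, sub_zero, sub_zero] at h1
    have h2 : ∀ i, (α ⊗ₜ[K] (1 : C)) ^ i * (q i).eval₂ (algebraMap K (C ⊗[K] C)) ((1 : C) ⊗ₜ[K] α) =
        (α ^ i) ⊗ₜ[K] (aeval α (q i)) := fun i => by
      rw [← aeval_def, ← Algebra.TensorProduct.includeRight_apply (R := K) (A := C), aeval_algHom_apply]
      simp [Algebra.TensorProduct.tmul_pow]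
    simp only [h2] at h1
    rw [Finset.sum_range_succ, hqd, map_zero, TensorProduct.tmul_zero, add_zero] at h1
    have h3 := congr(TensorProduct.lid K C ((b.coord ⟨j, hj⟩).rTensor C $h1))
    rw [map_zero, map_zero, map_sum, map_sum, Finset.sum_eq_single j] at h3
    · have h4 : b.coord ⟨j, hj⟩ (α ^ j) = 1 := by
        rw [← hb ⟨j, hj⟩, Module.Basis.coord_apply, b.repr_self, Finsupp.single_eq_same]
      rw [LinearMap.rTensor_tmul, h4, TensorProduct.lid_tmul, one_smul] at h3
      rcases hq j with h5 | h5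
      · exact h5
      · refine Polynomial.ext fun i => ?_
        rcases lt_or_ge i d with hi | hi
        · have h6 : aeval α (q j) = ∑ l : Fin d, (q j).coeff l • b l := by
            rw [aeval_eq_sum_range' (n := d) h5, Finset.sum_range]
            simp [hb]
          have h7 := congr(b.repr $(h3.trans h6) ⟨i, hi⟩)
          rw [b.repr_sum_self] at h7
          simpa using h7.symm
        · rw [coeff_eq_zero_of_natDegree_lt (lt_of_lt_of_le h5 hi), coeff_zero]
    · intro i hi hij
      rw [Finset.mem_range] at hi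
      rw [LinearMap.rTensor_tmul, ← hb ⟨i, hi⟩, Module.Basis.coord_apply, b.repr_self,
        Finsupp.single_eq_of_ne (by simp [Fin.ext_iff, Ne.symm hij]), TensorProduct.zero_tmul, map_zero]
    · intro hn; exact absurd (Finset.mem_range.2 hj) hn
  have h8 := key σ x y
  rw [Finset.sum_eq_zero fun j hj => by rw [hz j (Nat.lt_succ_iff.1 (Finset.mem_range.1 hj)), eval₂_zero, mul_zero]] at h8
  linear_combination h8

theorem eq_X_pow_sub_one (f : K[X]) (hf : f.Monic) (h0 : f.eval 0 ≠ 0) (h1 : f.eval 1 = 0) {C : Type u}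
    [CommRing C] [Algebra K C] (b : Module.Basis (Fin f.natDegree) K C) (α : C) (hb : ∀ i, b i = α ^ (i : ℕ))
    (hα : aeval α f = 0) (h : aeval (α ⊗ₜ[K] α) f = 0) : 0 < f.natDegree ∧ f = X ^ f.natDegree - 1 := by
  classical
  generalize hd : f.natDegree = d at b hb ⊢
  have hpos : 0 < d := by
    by_contra hc
    have : f = 1 := by rw [← hf.natDegree_eq_zero]; omega
    simp [this] at h1
  refine ⟨hpos, ?_⟩
  have hsum : α ^ d = ∑ i : Fin d, (-f.coeff i) • b i := by
    rw [aeval_eq_sum_range, Finset.sum_range_succ, hd, show f.coeff d = 1 from hd ▸ hf.coeff_natDegree, one_smul,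
      Finset.sum_range, add_comm, add_eq_zero_iff_eq_neg] at hα
    rw [hα, ← Finset.sum_neg_distrib]
    simp [hb]
  have h' : ∑ i : Fin d, f.coeff i • (b i ⊗ₜ[K] b i) +
      ∑ i : Fin d, ∑ j : Fin d, (f.coeff i * f.coeff j) • (b i ⊗ₜ[K] b j) = 0 := by
    rw [aeval_eq_sum_range, Finset.sum_range_succ, hd, show f.coeff d = 1 from hd ▸ hf.coeff_natDegree, one_smul,
      Finset.sum_range] at h
    simp only [Algebra.TensorProduct.tmul_pow, ← hb, hsum] at h
    rw [TensorProduct.sum_tmul] at h
    simp only [TensorProduct.tmul_sum] at h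
    refine Eq.trans ?_ h
    congr 1
    refine Finset.sum_congr rfl fun i _ => Finset.sum_congr rfl fun j _ => ?_
    rw [TensorProduct.tmul_smul, ← TensorProduct.smul_tmul', smul_smul, neg_mul_neg, mul_comm]
  have hij : ∀ i j : Fin d, (if i = j then f.coeff i else 0) + f.coeff i * f.coeff j = 0 := fun i j => by
    have := congr((b.tensorProduct b).repr $h' (i, j))
    simpa [map_sum, Finsupp.single_apply, Finset.sum_ite_eq', ← apply_ite] using this
  have h00 : f.coeff 0 ≠ 0 := by rwa [coeff_zero_eq_eval_zero]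
  have hc0 : f.coeff 0 = -1 := by
    have := hij ⟨0, hpos⟩ ⟨0, hpos⟩
    simp only [if_true] at this
    exact eq_neg_of_add_eq_zero_left (((mul_eq_zero (a := f.coeff 0) (b := f.coeff 0 + 1)).1 (by linear_combination this)).resolve_left h00)
  have hci : ∀ i, 0 < i → i < d → f.coeff i = 0 := fun i hi hid => by
    have := hij ⟨i, hid⟩ ⟨0, hpos⟩
    rw [if_neg (by simp [Fin.ext_iff]; omega), zero_add, hc0] at this
    simpa using this
  ext i
  rw [coeff_sub, coeff_X_pow, coeff_one]
  rcases eq_or_ne i 0 with rfl | hi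
  · simp [hc0, hpos.ne]
  rcases lt_trichotomy i d with hid | rfl | hid
  · simp [hci i (Nat.pos_of_ne_zero hi) hid, hi, hid.ne]
  · simp [hi, show f.coeff i = 1 from hd ▸ hf.coeff_natDegree]
  · simp [coeff_eq_zero_of_natDegree_lt (hd.symm ▸ hid : f.natDegree < i), hi, hid.ne']

/-! ### Finite subgroups -/

section Crit

variable {G H : Over (Spec (CommRingCat.of K))} (i : H ⟶ G) (coord : Γ(G.left, ⊤))

/-- The function of a point. -/
def fn {T : Over SK} (x : T ⟶ G) : Γ(T.left, ⊤) := x.left.appTop coord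

theorem fn_comp {T T' : Over SK} (h : T' ⟶ T) (x : T ⟶ G) : fn coord (h ≫ x) = h.left.appTop (fn coord x) := rfl

/-- Factorisation criterion. -/
theorem exists_criterion [IsFinite H.hom] [Mono i] [IsAffine G.left]
    (hG : ∀ T : Over SK, Function.Injective (fun x : T ⟶ G => fn coord x))
    (hgen : ∀ s : Γ(G.left, ⊤), ∃ (p q : K[X]), (q.eval₂ (sc G) coord) * s = p.eval₂ (sc G) coord ∧ IsUnit (q.eval₂ (sc G) coord)) :
    ∃ f : K[X], f.Monic ∧ f.eval₂ (sc H) (fn coord i) = 0 ∧
      (∀ (T : Over SK) (x : T ⟶ G), (∃ y : T ⟶ H, y ≫ i = x) ↔ f.eval₂ (sc T) (fn coord x) = 0) := by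
  classical
  haveI : IsSeparated G.hom := inferInstance
  haveI : IsFinite (i.left ≫ G.hom) := by rw [Over.w i]; infer_instance
  haveI : IsFinite i.left := IsFinite.of_comp i.left G.hom
  haveI : Mono i.left := (Over.forget SK).map_mono i
  haveI : IsClosedImmersion i.left := (IsClosedImmersion.iff_isProper_and_mono _).2 ⟨inferInstance, inferInstance⟩
  haveI : IsAffine H.left := isAffine_of_isAffineHom i.left
  letI : Algebra K Γ(H.left, ⊤) := (sc H).toAlgebra
  have hfin : (sc H).Finite := by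
    refine RingHom.Finite.comp ?_ (RingHom.Finite.of_surjective _ (Scheme.ΓSpecIso (CommRingCat.of K)).symm.commRingCatIsoToRingEquiv.surjective)
    exact H.hom.finite_appTop
  haveI : Module.Finite K Γ(H.left, ⊤) := hfin
  set h := fn coord i with hh
  have hint : IsIntegral K h := Algebra.IsIntegral.isIntegral h
  let f := minpoly K h
  refine ⟨f, minpoly.monic hint, minpoly.aeval K h, fun T x => ⟨?_, fun hx => ?_⟩⟩
  · rintro ⟨y, rfl⟩
    rw [fn_comp, ← hh, ← appTop_eval₂, show f.eval₂ (sc H) h = 0 from minpoly.aeval K h, map_zero]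
  · have hsurj : Function.Surjective (Algebra.adjoin K {h}).val := fun b => by
      obtain ⟨s, rfl⟩ := ((IsClosedImmersion.isAffine_surjective_of_isAffine i.left).2) b
      obtain ⟨p, q, hpq, hu⟩ := hgen s
      have e := congr(i.left.appTop $hpq)
      rw [map_mul, appTop_eval₂, appTop_eval₂] at e
      have hu' : IsUnit (q.eval₂ (sc H) h) := by
        have := hu.map i.left.appTop.hom
        rwa [show i.left.appTop.hom (q.eval₂ (sc G) coord) = _ from appTop_eval₂ i q coord] at this
      let A := Algebra.adjoin K {h}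
      have hmem : ∀ r : K[X], r.eval₂ (sc H) h ∈ A := fun r => aeval_mem_adjoin_singleton K h
      haveI : Module.Finite K A := inferInstance
      obtain ⟨z, hz⟩ : ∃ z : A, (⟨_, hmem q⟩ : A) * z = 1 := by
        have hinj : Function.Injective (LinearMap.mulLeft K (⟨_, hmem q⟩ : A)) := fun a c hac =>
          Subtype.ext (hu'.mul_left_cancel (congrArg Subtype.val hac))
        exact LinearMap.surjective_of_injective hinj 1
      refine ⟨z * ⟨_, hmem p⟩, ?_⟩
      show (z : Γ(H.left, ⊤)) * p.eval₂ (sc H) h = i.left.appTop s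
      refine hu'.mul_left_cancel ?_
      rw [← _root_.mul_assoc, show q.eval₂ (sc H) h * z = 1 from congrArg Subtype.val hz, _root_.one_mul]
      exact e.symm
    letI : Algebra K Γ(T.left, ⊤) := (sc T).toAlgebra
    let a := fn coord x
    let Φ : AdjoinRoot f →+* Γ(H.left, ⊤) := AdjoinRoot.lift (sc H) h (minpoly.aeval K h)
    have hΦ : Function.Bijective Φ := by
      refine ⟨(injective_iff_map_eq_zero _).2 fun z hz => ?_, fun z => ?_⟩
      · obtain ⟨r, rfl⟩ := AdjoinRoot.mk_surjective z
        simp only [Φ, AdjoinRoot.lift_mk] at hz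
        exact AdjoinRoot.mk_eq_zero.2 (minpoly.dvd K h hz)
      · obtain ⟨⟨z', hz'⟩, rfl⟩ := hsurj z
        rw [Algebra.adjoin_singleton_eq_range_aeval] at hz'
        obtain ⟨r, hr⟩ := hz'
        exact ⟨AdjoinRoot.mk f r, (AdjoinRoot.lift_mk _ _).trans hr⟩
    let e := RingEquiv.ofBijective Φ hΦ
    let ψ : Γ(H.left, ⊤) →+* Γ(T.left, ⊤) := (AdjoinRoot.lift (sc T) a hx).comp e.symm.toRingHom
    have hψh : ψ h = a := by
      have : e (AdjoinRoot.root f) = h := AdjoinRoot.lift_root (minpoly.aeval K h)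
      simp [ψ, ← this, AdjoinRoot.lift_root]
    have hψc : ∀ c, ψ (sc H c) = sc T c := fun c => by
      have : e (AdjoinRoot.of f c) = sc H c := AdjoinRoot.lift_of (minpoly.aeval K h)
      simp [ψ, ← this, AdjoinRoot.lift_of]
    let g : T.left ⟶ H.left := T.left.toSpecΓ ≫ Spec.map (CommRingCat.ofHom ψ) ≫ H.left.isoSpec.inv
    have hg : g.appTop = CommRingCat.ofHom ψ := by
      have hiso : H.left.isoSpec.inv.appTop = (Scheme.ΓSpecIso Γ(H.left, ⊤)).inv := by
        rw [← cancel_mono (Scheme.ΓSpecIso Γ(H.left, ⊤)).hom, Iso.inv_hom_id, ← Scheme.toSpecΓ_appTop,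
          ← Scheme.isoSpec_hom, ← Scheme.Hom.comp_appTop, Iso.hom_inv_id]
        rfl
      rw [show g.appTop = (H.left.isoSpec.inv.appTop ≫ (Spec.map (CommRingCat.ofHom ψ)).appTop) ≫ T.left.toSpecΓ.appTop from rfl,
        hiso, ← Scheme.ΓSpecIso_inv_naturality, Category.assoc, Scheme.toSpecΓ_appTop]
      erw [Iso.inv_hom_id, Category.comp_id]
    let y : T ⟶ H := Over.homMk g (by
      refine ext_of_isAffine ?_
      rw [Scheme.Hom.comp_appTop, hg]
      ext z
      obtain ⟨c, rfl⟩ := (Scheme.ΓSpecIso (CommRingCat.of K)).symm.commRingCatIsoToRingEquiv.surjective z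
      exact hψc c)
    refine ⟨y, hG T ?_⟩
    show fn coord (y ≫ i) = a
    rw [fn_comp, ← hh]
    exact (congr($hg h)).trans hψh

end Crit

end Groth.Agent.GaGm
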