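import Groth.Agent.GaGm.Kernel
import Mathlib.RingTheory.Flat.TorsionFree
import Mathlib.RingTheory.DedekindDomain.PID
import Mathlib.RingTheory.Spectrum.Prime.Topology
import Mathlib.RingTheory.IntegralClosure.IsIntegralClosure.Basic

/-! The quotient of the additive and of the multiplicative group by a finite subgroup scheme. -/

set_option autoImplicit false

universe u

open CategoryTheory MonoidalCategory CartesianMonoidalCategory MonObj GrpObj AlgebraicGeometry Limits Polynomial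
open scoped TensorProduct

noncomputable section

namespace Groth.Agent.GaGm

open RedPts

variable {K : Type u} [Field K]

section Ring

theorem flat_surjective_of_integral {R S : Type u} [CommRing R] [IsDomain R] [IsDedekindDomain R] [CommRing S] [IsDomain S]
    (F : R →+* S) (hinj : Function.Injective F) (hint : F.IsIntegral) :
    F.Flat ∧ Function.Surjective (PrimeSpectrum.comap F) := by
  refine ⟨?_, hint.comap_surjective hinj⟩
  algebraize [F]
  haveI : Module.IsTorsionFree R S := Module.isTorsionFree_iff_algebraMap_injective.2 hinj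
  exact inferInstanceAs (Module.Flat R S)

theorem poly_endo (f : K[X]) (hf : f.Monic) (hd : 0 < f.natDegree) :
    (aeval f : K[X] →ₐ[K] K[X]).toRingHom.Flat ∧
      Function.Surjective (PrimeSpectrum.comap (aeval f : K[X] →ₐ[K] K[X]).toRingHom) := by
  set F := (aeval f : K[X] →ₐ[K] K[X]).toRingHom with hF
  refine flat_surjective_of_integral F ((injective_iff_map_eq_zero _).2 fun p hp => ?_) fun p => ?_
  · by_contra hne
    have h1 : p.comp f = 0 := hp
    rcases comp_eq_zero_iff.1 h1 with h | ⟨_, h⟩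
    · exact hne h
    · rw [h, natDegree_C] at hd; exact lt_irrefl 0 hd
  induction p using Polynomial.induction_on with
  | C c => exact ⟨X - Polynomial.C (Polynomial.C c), monic_X_sub_C _, by simp [F]⟩
  | add p q hp hq => exact RingHom.IsIntegralElem.add F hp hq
  | monomial n c h =>
    rw [pow_succ, ← _root_.mul_assoc]
    refine RingHom.IsIntegralElem.mul F h ⟨f.map (algebraMap K K[X]) - Polynomial.C X, (hf.map _).sub_of_left ?_, ?_⟩
    · rw [degree_map_eq_of_injective (algebraMap K K[X]).injective]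
      exact lt_of_le_of_lt degree_C_le (natDegree_pos_iff_degree_pos.1 hd)
    · rw [eval₂_sub, eval₂_map, eval₂_C]
      have h1 : F.comp (algebraMap K K[X]) = algebraMap K K[X] := RingHom.ext fun c => (aeval f : K[X] →ₐ[K] K[X]).commutes c
      rw [h1, show F X = f from aeval_X f, ← aeval_def, aeval_X_left_apply, sub_self]

end Ring

section Ga

local notation "GA" => Red.Ga (Spec (CommRingCat.of K))

/-- The coordinate. -/
def tA : Γ((GA).left, ⊤) := Red.gaFn (𝟙 (GA))

theorem ga_fn {T : Over (Spec (CommRingCat.of K))} (x : T ⟶ GA) : fn tA x = Red.gaFn x :=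
  (ga_comp x (𝟙 _)).symm.trans (by rw [Category.comp_id])

/-- The coordinate isomorphism. -/
def toA : (GA) ⟶ specK (K := K) K[X] :=
  toP (eval₂RingHom (sc (GA)) tA) (by ext; simp)

def ofA : specK (K := K) K[X] ⟶ GA := (ga_surjective (fnB K[X] X)).choose

theorem gaFn_ofA : Red.gaFn (ofA (K := K)) = fnB K[X] X := (ga_surjective (fnB K[X] X)).choose_spec

theorem toA_ofA : toA (K := K) ≫ ofA = 𝟙 _ := by
  apply ga_injective
  rw [ga_comp, gaFn_ofA, toA, toP_appTop]
  simp [tA]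

theorem ofA_toA : ofA (K := K) ≫ toA = 𝟙 _ := by
  refine hom_ext_specK fun p => ?_
  rw [Over.comp_left, Scheme.Hom.comp_appTop, ConcreteCategory.comp_apply, toA, toP_appTop, coe_eval₂RingHom,
    appTop_eval₂, ← fn, ga_fn, gaFn_ofA, ← fnB_eval₂, aeval_X_left_apply]
  rfl

theorem ga_gen (s : Γ((GA).left, ⊤)) : ∃ (p q : K[X]), (q.eval₂ (sc (GA)) tA) * s = p.eval₂ (sc (GA)) tA ∧
    IsUnit (q.eval₂ (sc (GA)) tA) := by
  obtain ⟨p, hp⟩ := (fnB_bijective (K := K) K[X]).2 ((ofA (K := K)).left.appTop s)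
  refine ⟨p, 1, ?_, by simp⟩
  have h := congr(Scheme.Hom.appTop (Over.Hom.left $(toA_ofA (K := K))) s)
  rw [Over.comp_left, Scheme.Hom.comp_appTop, ConcreteCategory.comp_apply, ← hp, toA, toP_appTop] at h
  rw [eval₂_one, _root_.one_mul]
  exact h.symm

theorem ga_one {T : Over (Spec (CommRingCat.of K))} : Red.gaFn (1 : T ⟶ GA) = 0 := by
  have h := ga_mul (1 : T ⟶ GA) 1
  have h2 := congrArg Red.gaFn (_root_.mul_one (1 : T ⟶ GA))
  linear_combination h2 - h

theorem exists_ga {H : Over (Spec (CommRingCat.of K))} [GrpObj H] (i : H ⟶ GA) [IsMonHom i] [Mono i] [IsFinite H.hom] :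
    ∃ φ : (GA) ⟶ GA, IsMonHom φ ∧ AlgGrp.IsKernel i φ ∧ Flat φ.left ∧ Surjective φ.left := by
  haveI : IsAffine Red.GaZ.{u}.left := inferInstanceAs (IsAffine (Spec _))
  haveI : IsAffine (GA).left := inferInstanceAs (IsAffine (pullback Red.GaZ.{u}.hom _))
  obtain ⟨f, hf, hfi, hcrit⟩ := exists_criterion i tA (fun T x y h => ga_injective (by simpa only [ga_fn] using h)) ga_gen
  simp only [ga_fn] at hcrit hfi
  have h0 : f.eval 0 = 0 := by
    have h := (hcrit (𝟙_ _) 1).1 ⟨1, by simp⟩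
    rw [ga_one, eval₂_at_zero] at h
    rw [← coeff_zero_eq_eval_zero]
    haveI : Nontrivial Γ((𝟙_ (Over (Spec (CommRingCat.of K)))).left, ⊤) :=
      (Scheme.ΓSpecIso (CommRingCat.of K)).symm.commRingCatIsoToRingEquiv.injective.nontrivial
    exact (map_eq_zero_iff _ (sc (𝟙_ (Over (Spec (CommRingCat.of K))))).injective).1 h
  have hd : 0 < f.natDegree := by
    by_contra h
    have : f = 1 := by rw [← hf.natDegree_eq_zero]; omega
    simp [this] at h0
  let C := AdjoinRoot f
  let b := (AdjoinRoot.powerBasis' hf).basis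
  have hsum : aeval (AdjoinRoot.root f ⊗ₜ[K] (1 : C) + (1 : C) ⊗ₜ[K] AdjoinRoot.root f) f = 0 := by
    let T := specK (K := K) (C ⊗[K] C)
    have hz : ∀ z : C ⊗[K] C, aeval z f = 0 → ∃ x : T ⟶ GA, Red.gaFn x = fnB _ z ∧ ∃ y : T ⟶ H, y ≫ i = x := fun z hz => by
      obtain ⟨x, hx⟩ := ga_surjective (S := Spec (CommRingCat.of K)) (X := T) (fnB _ z)
      exact ⟨x, hx, (hcrit T x).2 (by rw [hx, ← fnB_eval₂, hz, map_zero])⟩
    have h1 : aeval (AdjoinRoot.root f ⊗ₜ[K] (1 : C)) f = 0 := by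
      have := aeval_algHom_apply (Algebra.TensorProduct.includeLeft : C →ₐ[K] C ⊗[K] C) (AdjoinRoot.root f) f
      rwa [AdjoinRoot.aeval_eq, AdjoinRoot.mk_self, map_zero] at this
    have h2 : aeval ((1 : C) ⊗ₜ[K] AdjoinRoot.root f) f = 0 := by
      have := aeval_algHom_apply (Algebra.TensorProduct.includeRight : C →ₐ[K] C ⊗[K] C) (AdjoinRoot.root f) f
      rwa [AdjoinRoot.aeval_eq, AdjoinRoot.mk_self, map_zero] at this
    obtain ⟨x₁, hx₁, y₁, rfl⟩ := hz _ h1
    obtain ⟨x₂, hx₂, y₂, rfl⟩ := hz _ h2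
    have h := (hcrit T ((y₁ ≫ i) * (y₂ ≫ i))).1 ⟨y₁ * y₂, MonObj.mul_comp y₁ y₂ i⟩
    rw [ga_mul, hx₁, hx₂, ← map_add, ← fnB_eval₂] at h
    exact (fnB_bijective (K := K) (C ⊗[K] C)).1 (h.trans (map_zero _).symm)
  have hadd : ∀ {R : Type u} [CommRing R] (σ : K →+* R) (x y : R),
      f.eval₂ σ (x + y) = f.eval₂ σ x + f.eval₂ σ y :=
    fun σ x y => taylor_additive f hf h0 b (AdjoinRoot.root f)
      (fun j => (AdjoinRoot.powerBasis' hf).basis_eq_pow j) (by rw [AdjoinRoot.aeval_eq, AdjoinRoot.mk_self]) hsum σ x y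
  obtain ⟨φ, hφ⟩ := ga_surjective (S := Spec (CommRingCat.of K)) (X := GA) (f.eval₂ (sc (GA)) tA)
  have hcomp : ∀ {T : Over (Spec (CommRingCat.of K))} (x : T ⟶ GA), Red.gaFn (x ≫ φ) = f.eval₂ (sc T) (Red.gaFn x) := fun x => by
    rw [ga_comp, hφ, appTop_eval₂]
    congr 1
  haveI hφm : IsMonHom φ := by
    refine ⟨ga_injective ?_, ga_injective ?_⟩
    · rw [hcomp, one_eq_one, ga_one, eval₂_at_zero, coeff_zero_eq_eval_zero, h0, map_zero]
    · rw [MonObj.mul_eq_mul, MonObj.comp_mul, tensorHom_fst, tensorHom_snd, ga_mul, hcomp, hcomp, hcomp, ga_mul, hadd]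
  refine ⟨φ, hφm, ?_, ?_⟩
  · have w : i ≫ φ = toUnit H ≫ η[GA] := by
      apply ga_injective
      rw [hcomp, hfi, one_eq_one, MonObj.comp_one, ga_one]
    refine ⟨⟨w⟩, ⟨PullbackCone.IsLimit.mk w (fun s => ((hcrit s.pt s.fst).2 ?_).choose) (fun s => ?_) (fun s => ?_) (fun s m hm _ => ?_)⟩⟩
    · refine (hcomp s.fst).symm.trans ((congrArg Red.gaFn s.condition).trans ?_)
      simp only [one_eq_one, MonObj.comp_one, ga_one]
    · exact Exists.choose_spec (_ : ∃ y : s.pt ⟶ H, y ≫ i = s.fst)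
    · exact toUnit_unique _ _
    · exact (cancel_mono i).1 (hm.trans (Exists.choose_spec (_ : ∃ y : s.pt ⟶ H, y ≫ i = s.fst)).symm)
  let m : specK (K := K) K[X] ⟶ specK K[X] :=
    Over.homMk (Spec.map (CommRingCat.ofHom (aeval f : K[X] →ₐ[K] K[X]).toRingHom)) (by
      show Spec.map _ ≫ Spec.map _ = Spec.map _
      rw [← Spec.map_comp, ← CommRingCat.ofHom_comp]
      exact congrArg (fun t => Spec.map (CommRingCat.ofHom t)) (AlgHom.comp_algebraMap (aeval f : K[X] →ₐ[K] K[X])))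
  have hm : φ = toA ≫ m ≫ ofA := by
    apply ga_injective
    rw [ga_comp, ga_comp, gaFn_ofA, hφ]
    have : m.left.appTop (fnB K[X] X) = fnB K[X] (aeval f (X : K[X])) :=
      congr($((Scheme.ΓSpecIso_inv_naturality (CommRingCat.ofHom (aeval f : K[X] →ₐ[K] K[X]).toRingHom))) X).symm
    rw [this, aeval_X, toA, toP_appTop, coe_eval₂RingHom]
  haveI : IsIso (toA (K := K)) := ⟨ofA, toA_ofA, ofA_toA⟩
  haveI : IsIso (ofA (K := K)) := ⟨toA, ofA_toA, toA_ofA⟩
  haveI : IsIso (toA (K := K)).left := inferInstanceAs (IsIso ((Over.forget _).map (toA (K := K))))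
  haveI : IsIso (ofA (K := K)).left := inferInstanceAs (IsIso ((Over.forget _).map (ofA (K := K))))
  haveI : Flat m.left := (HasRingHomProperty.Spec_iff (P := @Flat)).2 (poly_endo f hf hd).1
  haveI : Surjective m.left := ⟨(poly_endo f hf hd).2⟩
  rw [hm, Over.comp_left, Over.comp_left]
  exact ⟨inferInstance, inferInstance⟩

end Ga

section Gm

local notation "GM" => Red.Gm (Spec (CommRingCat.of K))

open LaurentPolynomial

theorem laurent_endo (d : ℕ) (hd : 0 < d) (F : LaurentPolynomial K →+* LaurentPolynomial K)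
    (hC : ∀ c : K, F (LaurentPolynomial.C c) = LaurentPolynomial.C c) (hT : F (T 1) = T (d : ℤ)) :
    F.Flat ∧ Function.Surjective (PrimeSpectrum.comap F) := by
  haveI : IsDomain (LaurentPolynomial K) := inferInstance
  haveI : IsPrincipalIdealRing (LaurentPolynomial K) := ⟨fun I => by
    rw [← IsLocalization.map_comap (Submonoid.powers (X : K[X])) (LaurentPolynomial K) I]
    obtain ⟨g, hg⟩ := IsPrincipalIdealRing.principal (I.under K[X])
    exact ⟨⟨algebraMap K[X] (LaurentPolynomial K) g, by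
      rw [hg, Ideal.submodule_span_eq, Ideal.submodule_span_eq, Ideal.map_span, Set.image_singleton]⟩⟩⟩
  have hTint : ∀ z : LaurentPolynomial K, z = T 1 ∨ z = T (-1) → F.IsIntegralElem z := fun z hz => by
    rcases hz with rfl | rfl
    · exact ⟨X ^ d - Polynomial.C (T 1), monic_X_pow_sub_C _ hd.ne', by simp [hT, T_pow]⟩
    · refine ⟨X ^ d - Polynomial.C (T (-1)), monic_X_pow_sub_C _ hd.ne', ?_⟩
      have : F (T (-1)) = T (-(d : ℤ)) := by
        have h1 : T (d : ℤ) * F (T (-1)) = (1 : LaurentPolynomial K) := by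
          rw [← hT, ← map_mul, ← T_add]; simp
        calc F (T (-1)) = T (-(d : ℤ)) * (T (d : ℤ) * F (T (-1))) := by rw [← _root_.mul_assoc, ← T_add]; simp
          _ = _ := by rw [h1, _root_.mul_one]
      simp [this, T_pow]
  refine flat_surjective_of_integral F ((injective_iff_map_eq_zero _).2 fun p hp => ?_) fun p => ?_
  · obtain ⟨n, p', hp'⟩ := exists_T_pow p
    have h1 : F (Polynomial.toLaurent p') = 0 := by rw [hp', map_mul, hp, zero_mul]
    have h2 : F (Polynomial.toLaurent p') = Polynomial.toLaurent (p'.comp (X ^ d)) := by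
      have : F.comp Polynomial.toLaurent = (Polynomial.toLaurent (R := K)).comp (compRingHom (X ^ d)) := by
        refine Polynomial.ringHom_ext (fun c => ?_) ?_
        · simp [hC]
        · simp [hT]
      exact congr($this p')
    rw [h2, Polynomial.toLaurent_eq_zero] at h1
    rcases comp_eq_zero_iff.1 h1 with h | ⟨-, h⟩
    · rw [h, map_zero] at hp'
      exact (mul_eq_zero.1 hp'.symm).resolve_right ((isUnit_T _).ne_zero)
    · have := congrArg natDegree h
      rw [natDegree_X_pow, natDegree_C] at this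
      omega
  · induction p using LaurentPolynomial.induction_on with
    | h_C a => exact ⟨X - Polynomial.C (LaurentPolynomial.C a), monic_X_sub_C _, by simp [hC]⟩
    | h_add hp hq => exact RingHom.IsIntegralElem.add F hp hq
    | h_C_mul_T n a h =>
      rw [T_add, ← _root_.mul_assoc]
      exact RingHom.IsIntegralElem.mul F h (hTint _ (Or.inl rfl))
    | h_C_mul_T_Z n a h =>
      rw [sub_eq_add_neg, T_add, ← _root_.mul_assoc]
      exact RingHom.IsIntegralElem.mul F h (hTint _ (Or.inr rfl))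

/-- The coordinate. -/
def tM : Γ((GM).left, ⊤) := Red.gmFn (𝟙 (GM))

theorem gm_fn {T : Over (Spec (CommRingCat.of K))} (x : T ⟶ GM) : fn tM x = Red.gmFn x :=
  (gm_comp x (𝟙 _)).symm.trans (by rw [Category.comp_id])

theorem tM_unit : IsUnit (tM (K := K)) := gm_isUnit _

/-- The coordinate isomorphism. -/
def toM : (GM) ⟶ specK (K := K) (LaurentPolynomial K) :=
  toP (LaurentPolynomial.eval₂ (sc (GM)) (tM_unit (K := K)).unit) (by
    ext c
    simp [LaurentPolynomial.algebraMap_apply])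

def ofM : specK (K := K) (LaurentPolynomial K) ⟶ GM :=
  (gm_surjective (c := fnB (K := K) (LaurentPolynomial K) (T 1)) ((isUnit_T 1).map _)).choose

theorem gmFn_ofM : Red.gmFn (ofM (K := K)) = fnB (LaurentPolynomial K) (T 1) :=
  (gm_surjective (c := fnB (K := K) (LaurentPolynomial K) (T 1)) ((isUnit_T 1).map _)).choose_spec

theorem eval₂_T_one {S : Type u} [CommRing S] (g : K →+* S) (v : Sˣ) : LaurentPolynomial.eval₂ g v (T 1) = v := by
  simp [LaurentPolynomial.eval₂_T]

theorem toM_ofM : toM (K := K) ≫ ofM = 𝟙 _ := by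
  apply gm_injective
  rw [gm_comp, gmFn_ofM, toM, toP_appTop, eval₂_T_one, IsUnit.unit_spec]
  rfl

theorem ofM_toM : ofM (K := K) ≫ toM = 𝟙 _ := by
  refine hom_ext_specK fun p => ?_
  rw [Over.comp_left, Scheme.Hom.comp_appTop, ConcreteCategory.comp_apply, toM, toP_appTop]
  show _ = fnB (K := K) (LaurentPolynomial K) p
  have h : (ofM (K := K)).left.appTop.hom.comp (LaurentPolynomial.eval₂ (sc (GM)) (tM_unit (K := K)).unit) =
      fnB (K := K) (LaurentPolynomial K) := by
    refine IsLocalization.ringHom_ext (Submonoid.powers (X : K[X])) (Polynomial.ringHom_ext (fun c => ?_) ?_)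
    · simp [LaurentPolynomial.algebraMap_apply, appTop_sc (ofM (K := K))]
      rw [← fnB_algebraMap, LaurentPolynomial.algebraMap_apply]
      simp
    · simp only [RingHom.comp_apply, algebraMap_eq_toLaurent, Polynomial.toLaurent_X, eval₂_T_one, IsUnit.unit_spec]
      exact (gm_fn (ofM (K := K))).trans gmFn_ofM
  exact congr($h p)

theorem gm_gen (s : Γ((GM).left, ⊤)) : ∃ (p q : K[X]), (q.eval₂ (sc (GM)) tM) * s = p.eval₂ (sc (GM)) tM ∧
    IsUnit (q.eval₂ (sc (GM)) tM) := by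
  obtain ⟨l, hl⟩ := (fnB_bijective (K := K) (LaurentPolynomial K)).2 ((ofM (K := K)).left.appTop s)
  obtain ⟨n, p, hp⟩ := exists_T_pow l
  refine ⟨p, X ^ n, ?_, ?_⟩
  · have h := congr(Scheme.Hom.appTop (Over.Hom.left $(toM_ofM (K := K))) s)
    rw [Over.comp_left, Scheme.Hom.comp_appTop, ConcreteCategory.comp_apply, ← hl, toM, toP_appTop] at h
    have h2 := congrArg (LaurentPolynomial.eval₂ (sc (GM)) (tM_unit (K := K)).unit) hp
    rw [map_mul, h, LaurentPolynomial.eval₂_T_n, IsUnit.unit_spec, LaurentPolynomial.eval₂_toLaurent, IsUnit.unit_spec] at h2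
    rw [eval₂_X_pow, h2, _root_.mul_comm]
    rfl
  · rw [eval₂_X_pow]; exact (tM_unit (K := K)).pow n

theorem gm_one {T : Over (Spec (CommRingCat.of K))} : Red.gmFn (1 : T ⟶ GM) = 1 := by
  have h := gm_mul (1 : T ⟶ GM) 1
  have h2 := congrArg Red.gmFn (_root_.mul_one (1 : T ⟶ GM))
  rw [h2] at h
  exact ((gm_isUnit (1 : T ⟶ GM)).mul_left_cancel (h.symm.trans (_root_.mul_one _).symm))

theorem exists_gm {H : Over (Spec (CommRingCat.of K))} [GrpObj H] (i : H ⟶ GM) [IsMonHom i] [Mono i] [IsFinite H.hom] :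
    ∃ φ : (GM) ⟶ GM, IsMonHom φ ∧ AlgGrp.IsKernel i φ ∧ Flat φ.left ∧ Surjective φ.left := by
  haveI : IsAffine (Red.diag (ULift.{u} ℤ) ℤ).left := inferInstanceAs (IsAffine (Spec _))
  haveI : IsAffine (GM).left := inferInstanceAs (IsAffine (pullback (Red.diag (ULift.{u} ℤ) ℤ).hom _))
  obtain ⟨g, hg, hgi, hcrit'⟩ := exists_criterion i tM (fun T x y h => gm_injective (by simpa only [gm_fn] using h)) gm_gen
  simp only [gm_fn] at hcrit' hgi
  -- normalise away the zero root
  obtain ⟨m, f, hf, hf0, hgf⟩ : ∃ (m : ℕ) (f : K[X]), f.Monic ∧ f.eval 0 ≠ 0 ∧ g = X ^ m * f := by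
    obtain ⟨f, hgf, hnd⟩ := g.exists_eq_pow_rootMultiplicity_mul_and_not_dvd hg.ne_zero 0
    rw [map_zero, sub_zero] at hgf hnd
    refine ⟨_, f, ?_, ?_, hgf⟩
    · exact (monic_X_pow _).of_mul_monic_left (hgf ▸ hg)
    · rw [← coeff_zero_eq_eval_zero]; exact fun h => hnd (X_dvd_iff.2 h)
  have hcrit : ∀ (T : Over (Spec (CommRingCat.of K))) (x : T ⟶ GM), (∃ y, y ≫ i = x) ↔ f.eval₂ (sc T) (Red.gmFn x) = 0 := fun T x => by
    rw [hcrit', hgf, eval₂_mul, eval₂_X_pow, ((gm_isUnit x).pow m).mul_right_eq_zero]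
  have hfi : f.eval₂ (sc H) (Red.gmFn i) = 0 := (hcrit H i).1 ⟨𝟙 H, Category.id_comp i⟩
  have h1 : f.eval 1 = 0 := by
    have h := (hcrit (𝟙_ _) 1).1 ⟨1, by simp⟩
    rw [gm_one, eval₂_at_one] at h
    haveI : Nontrivial Γ((𝟙_ (Over (Spec (CommRingCat.of K)))).left, ⊤) :=
      (Scheme.ΓSpecIso (CommRingCat.of K)).symm.commRingCatIsoToRingEquiv.injective.nontrivial
    exact (map_eq_zero_iff _ (sc (𝟙_ (Over (Spec (CommRingCat.of K))))).injective).1 h
  let C := AdjoinRoot f
  let b := (AdjoinRoot.powerBasis' hf).basis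
  have hru : IsUnit (AdjoinRoot.root f) := by
    have h2 : aeval (AdjoinRoot.root f) f = 0 := by rw [AdjoinRoot.aeval_eq, AdjoinRoot.mk_self]
    have h2' := congrArg (aeval (AdjoinRoot.root f)) f.X_mul_divX_add
    rw [map_add, map_mul, aeval_X, aeval_C, h2] at h2'
    have h3 : IsUnit (algebraMap K C (f.coeff 0)) := (isUnit_iff_ne_zero.2 (by rwa [coeff_zero_eq_eval_zero])).map _
    rw [eq_neg_of_add_eq_zero_right h2', IsUnit.neg_iff] at h3
    exact isUnit_of_mul_isUnit_left h3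
  have hprod : aeval (AdjoinRoot.root f ⊗ₜ[K] AdjoinRoot.root f) f = 0 := by
    let P := specK (K := K) (C ⊗[K] C)
    have hz : ∀ z : C ⊗[K] C, IsUnit z → aeval z f = 0 → ∃ x : P ⟶ GM, Red.gmFn x = fnB _ z ∧ ∃ y : P ⟶ H, y ≫ i = x := fun z hu hz => by
      obtain ⟨x, hx⟩ := gm_surjective (S := Spec (CommRingCat.of K)) (X := P) (c := fnB _ z) (hu.map _)
      exact ⟨x, hx, (hcrit P x).2 (by rw [hx, ← fnB_eval₂, hz, map_zero])⟩
    have h1 : aeval (AdjoinRoot.root f ⊗ₜ[K] (1 : C)) f = 0 := by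
      have := aeval_algHom_apply (Algebra.TensorProduct.includeLeft : C →ₐ[K] C ⊗[K] C) (AdjoinRoot.root f) f
      rwa [AdjoinRoot.aeval_eq, AdjoinRoot.mk_self, map_zero] at this
    have h2 : aeval ((1 : C) ⊗ₜ[K] AdjoinRoot.root f) f = 0 := by
      have := aeval_algHom_apply (Algebra.TensorProduct.includeRight : C →ₐ[K] C ⊗[K] C) (AdjoinRoot.root f) f
      rwa [AdjoinRoot.aeval_eq, AdjoinRoot.mk_self, map_zero] at this
    obtain ⟨x₁, hx₁, y₁, rfl⟩ := hz _ (hru.map (Algebra.TensorProduct.includeLeft : C →ₐ[K] C ⊗[K] C)) h1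
    obtain ⟨x₂, hx₂, y₂, rfl⟩ := hz _ (hru.map (Algebra.TensorProduct.includeRight : C →ₐ[K] C ⊗[K] C)) h2
    have h := (hcrit P ((y₁ ≫ i) * (y₂ ≫ i))).1 ⟨y₁ * y₂, MonObj.mul_comp y₁ y₂ i⟩
    rw [gm_mul, hx₁, hx₂, ← map_mul, Algebra.TensorProduct.includeLeft_apply, Algebra.TensorProduct.includeRight_apply, Algebra.TensorProduct.tmul_mul_tmul, _root_.mul_one, _root_.one_mul, ← fnB_eval₂] at h
    exact (fnB_bijective (K := K) (C ⊗[K] C)).1 (h.trans (map_zero _).symm)
  obtain ⟨hd, hfd⟩ := eq_X_pow_sub_one f hf hf0 h1 b (AdjoinRoot.root f)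
    (fun j => (AdjoinRoot.powerBasis' hf).basis_eq_pow j) (by rw [AdjoinRoot.aeval_eq, AdjoinRoot.mk_self]) hprod
  generalize hdd : f.natDegree = d at hd hfd
  subst hfd
  obtain ⟨φ, hφ⟩ := gm_surjective (S := Spec (CommRingCat.of K)) (X := GM) ((tM_unit (K := K)).pow d)
  have hcomp : ∀ {T : Over (Spec (CommRingCat.of K))} (x : T ⟶ GM), Red.gmFn (x ≫ φ) = Red.gmFn x ^ d := fun x => by
    rw [gm_comp, hφ, map_pow]
    congr 1
  have hker : ∀ {T : Over (Spec (CommRingCat.of K))} (x : T ⟶ GM),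
      ((X : K[X]) ^ d - 1).eval₂ (sc T) (Red.gmFn x) = 0 ↔ x ≫ φ = 1 := fun x => by
    rw [eval₂_sub, eval₂_X_pow, eval₂_one, sub_eq_zero, ← hcomp]
    exact ⟨fun h => gm_injective (h.trans gm_one.symm), fun h => by rw [h, gm_one]⟩
  haveI hφm : IsMonHom φ := by
    refine ⟨gm_injective ?_, gm_injective ?_⟩
    · rw [hcomp, one_eq_one, gm_one, one_pow]
    · rw [MonObj.mul_eq_mul, MonObj.comp_mul, tensorHom_fst, tensorHom_snd, gm_mul, hcomp, hcomp, hcomp, gm_mul, mul_pow]
  refine ⟨φ, hφm, ?_, ?_⟩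
  · have w : i ≫ φ = toUnit H ≫ η[GM] := by
      rw [(hker i).1 hfi]
      simp only [one_eq_one, MonObj.comp_one]
    refine ⟨⟨w⟩, ⟨PullbackCone.IsLimit.mk w (fun s => ((hcrit s.pt s.fst).2 ((hker s.fst).2 ?_)).choose) (fun s => ?_) (fun s => ?_) (fun s m hm _ => ?_)⟩⟩
    · refine s.condition.trans ?_
      simp only [one_eq_one, MonObj.comp_one]
    · exact Exists.choose_spec (_ : ∃ y : s.pt ⟶ H, y ≫ i = s.fst)
    · exact toUnit_unique _ _
    · exact (cancel_mono i).1 (hm.trans (Exists.choose_spec (_ : ∃ y : s.pt ⟶ H, y ≫ i = s.fst)).symm)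
  let F : LaurentPolynomial K →+* LaurentPolynomial K :=
    LaurentPolynomial.eval₂ LaurentPolynomial.C ((isUnit_T (1 : ℤ)).pow d).unit
  have hFC : ∀ c : K, F (LaurentPolynomial.C c) = LaurentPolynomial.C c := fun c => eval₂_C _ _ c
  have hFT : F (T 1) = T (d : ℤ) := by
    rw [eval₂_T_one, IsUnit.unit_spec, T_pow, _root_.mul_one]
  let m : specK (K := K) (LaurentPolynomial K) ⟶ specK (LaurentPolynomial K) :=
    Over.homMk (Spec.map (CommRingCat.ofHom F)) (by
      show Spec.map _ ≫ Spec.map _ = Spec.map _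
      rw [← Spec.map_comp, ← CommRingCat.ofHom_comp]
      exact congrArg (fun t => Spec.map (CommRingCat.ofHom t)) (RingHom.ext fun c => by simp [LaurentPolynomial.algebraMap_apply, hFC]))
  have hm : φ = toM ≫ m ≫ ofM := by
    apply gm_injective
    rw [gm_comp, gm_comp, gmFn_ofM, hφ]
    have : m.left.appTop (fnB (LaurentPolynomial K) (T 1)) = fnB (LaurentPolynomial K) (F (T 1)) :=
      congr($((Scheme.ΓSpecIso_inv_naturality (CommRingCat.ofHom F))) (T 1)).symm
    rw [this, hFT, toM, toP_appTop, LaurentPolynomial.eval₂_T_n, IsUnit.unit_spec]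
  haveI : IsIso (toM (K := K)) := ⟨ofM, toM_ofM, ofM_toM⟩
  haveI : IsIso (ofM (K := K)) := ⟨toM, ofM_toM, toM_ofM⟩
  haveI : IsIso (toM (K := K)).left := inferInstanceAs (IsIso ((Over.forget _).map (toM (K := K))))
  haveI : IsIso (ofM (K := K)).left := inferInstanceAs (IsIso ((Over.forget _).map (ofM (K := K))))
  haveI : Flat m.left := (HasRingHomProperty.Spec_iff (P := @Flat)).2 (laurent_endo d hd F hFC hFT).1
  haveI : Surjective m.left := ⟨(laurent_endo d hd F hFC hFT).2⟩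
  rw [hm, Over.comp_left, Over.comp_left]
  exact ⟨inferInstance, inferInstance⟩

end Gm

end Groth.Agent.GaGm
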